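import Cfsg.Agent.H574.Deg4.NoFrob
import Cfsg.Agent.H574.Deg4.Sixteen
import Cfsg.Agent.H386.Factor

/-!
# Irreducible linear groups of degree at most four generated by `t`-elements of small rank (helper574)

* `scalar_of_central` : Schur's lemma;
* `irr_comm` : an irreducible group of degree at most four and of order prime to three and the characteristic, generated by
  `t`-elements `z` with `rank (z - 1) ≤ 2`, `t ≥ 5`, is abelian.
-/

set_option autoImplicit false

namespace Cfsg.Agent.H574.Deg4

open Module Cfsg.Agent.H189.Wt Cfsg.Agent.H189.FTRep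
open Subgroup (center)
open scoped commutatorElement

universe u v w

variable {k : Type u} {V : Type v} {G : Type w} [Field k] [AddCommGroup V] [Module k V] [Group G]

/-- Schur's lemma -/
theorem scalar_of_central [IsAlgClosed k] [FiniteDimensional k V] (ρ : G →* End k V) (hirr : Irr ρ) {z : G}
    (hz : z ∈ center G) : ∃ c : k, ∀ v, ρ z v = c • v := by
  have hnt : Nontrivial V := hirr.1
  obtain ⟨w, -, hw0, c, hc⟩ := Cfsg.Agent.H189.Eig.exists_eig (ρ z) ⊤ (fun _ _ => trivial) top_ne_bot
  refine ⟨c, ?_⟩
  let U : Submodule k V := LinearMap.ker (ρ z - c • (1 : End k V))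
  have hmem : ∀ v, v ∈ U ↔ ρ z v = c • v := by
    intro v
    rw [LinearMap.mem_ker, LinearMap.sub_apply, LinearMap.smul_apply, End.one_apply, sub_eq_zero]
  rcases hirr.2 U (by
    intro g v hv
    rw [hmem] at hv ⊢
    rw [← mul_apply', ← Subgroup.mem_center_iff.1 hz g, mul_apply', hv, map_smul]) with h | h
  · exfalso
    apply hw0
    have : w ∈ U := (hmem w).2 hc
    rwa [h, Submodule.mem_bot] at this
  · intro v
    rw [← hmem, h]
    trivial

/-- an automorphism of prime power order `≥ 5` of a group of order four is trivial -/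
theorem aut_four {Q : Type*} [Group Q] [Finite Q] {σ : MulAut Q} (hQ : Nat.card Q = 4) {t n : ℕ} (ht : t.Prime)
    (h5 : 5 ≤ t) (hσ : σ ^ t ^ n = 1) : σ = 1 := by
  classical
  by_contra hne
  have htf : Fact t.Prime := ⟨ht⟩
  have hP : IsPGroup t (Subgroup.zpowers σ) := by
    rintro ⟨_, i, rfl⟩
    refine ⟨n, Subtype.ext ?_⟩
    show (σ ^ i) ^ t ^ n = 1
    rw [← zpow_natCast, ← zpow_mul, mul_comm, zpow_mul, zpow_natCast, hσ, one_zpow]
  have := Fintype.ofFinite Q
  have hmod := hP.card_modEq_card_fixedPoints Q
  obtain ⟨f, hf⟩ : ∃ f, f = Nat.card (MulAction.fixedPoints (Subgroup.zpowers σ) Q) := ⟨_, rfl⟩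
  have hdvd := fixed_dvd σ
  rw [hQ, ← hf] at hdvd
  rw [hQ, ← hf] at hmod
  have hf4 : f ≤ 4 := Nat.le_of_dvd (by norm_num) hdvd
  have hf0 : 0 < f := Nat.pos_of_dvd_of_pos hdvd (by norm_num)
  have h2 : t ∣ 4 - f := (Nat.modEq_iff_dvd' hf4).1 hmod.symm
  have hf44 : f = 4 := by
    by_contra h
    have := Nat.le_of_dvd (by omega) h2
    omega
  apply hne
  have h1 : MulAction.fixedPoints (Subgroup.zpowers σ) Q = Set.univ := by
    apply Set.eq_of_subset_of_ncard_le (Set.subset_univ _)
    rw [Set.ncard_univ, hQ, ← Nat.card_coe_set_eq, ← hf, hf44]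
  ext x
  have h3 : x ∈ MulAction.fixedPoints (Subgroup.zpowers σ) Q := by rw [h1]; trivial
  exact h3 ⟨σ, Subgroup.mem_zpowers σ⟩

/-- the quotient of a group by its centre is not cyclic -/
theorem comm_of_card_prime [Finite G] {N : Subgroup G} {p : ℕ} [hp : Fact p.Prime]
    (h : Nat.card (N.map (QuotientGroup.mk' (center G))) = p) : ∀ x ∈ N, ∀ y ∈ N, x * y = y * x := by
  have hc : IsCyclic (N.map (QuotientGroup.mk' (center G))) := isCyclic_of_prime_card h
  let φ : N →* N.map (QuotientGroup.mk' (center G)) :=
    ((QuotientGroup.mk' (center G)).comp N.subtype).codRestrict _ (fun b => ⟨b, b.2, rfl⟩)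
  intro x hx y hy
  have h1 := commutative_of_cyclic_center_quotient φ (by
    intro z hz
    have h2 : (QuotientGroup.mk' (center G)) (z : G) = 1 := congrArg Subtype.val (MonoidHom.mem_ker.1 hz)
    have h3 : (z : G) ∈ center G := (QuotientGroup.eq_one_iff _).1 h2
    rw [Subgroup.mem_center_iff]
    intro g
    exact Subtype.ext (Subgroup.mem_center_iff.1 h3 g)) ⟨x, hx⟩ ⟨y, hy⟩
  exact congrArg Subtype.val h1

/-- **irreducible groups** -/
theorem irr_comm [IsAlgClosed k] [FiniteDimensional k V] [Finite G] (ρ : G →* End k V)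
    (hinj : Function.Injective ρ) (hirr : Irr ρ) (hd : finrank k V ≤ 4) (h3 : ¬ 3 ∣ Nat.card G)
    (hk : (Nat.card G : k) ≠ 0) {t : ℕ} (ht : t.Prime) (h5 : 5 ≤ t) (S : Set G)
    (hSt : ∀ z ∈ S, ∃ n, z ^ t ^ n = 1) (hSr : ∀ z ∈ S, finrank k (LinearMap.range (ρ z - 1)) ≤ 2)
    (hgen : Subgroup.closure S = ⊤) : ∀ a b : G, a * b = b * a := by
  classical
  by_contra hcon0
  have hnt : Nontrivial V := hirr.1
  have hsc : ∀ z ∈ center G, ∃ c : k, ∀ v, ρ z v = c • v := fun z hz => scalar_of_central ρ hirr hz
  -- abelian normal subgroups are central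
  have habN : ∀ A : Subgroup G, A.Normal → (∀ a ∈ A, ∀ b ∈ A, a * b = b * a) → A ≤ center G := by
    intro A hA hab a ha
    have hAk : (Nat.card A : k) ≠ 0 := by
      intro h0
      apply hk
      obtain ⟨e, he⟩ := Subgroup.card_subgroup_dvd_card A
      rw [he, Nat.cast_mul, h0, zero_mul]
    have h1 : Subgroup.closure S ≤ Subgroup.centralizer {a} := by
      rw [Subgroup.closure_le]
      intro z hz
      obtain ⟨n, hn⟩ := hSt z hz
      have h2 := centralises_of_pow ρ hinj A hAk hab (c := z) (by
        intro b hb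
        have := hA.conj_mem b hb z⁻¹
        rwa [inv_inv] at this) (j := t ^ n) (by
        intro b _
        rw [hn, inv_one, one_mul, mul_one]) (by
        intro p hp hp4 hpd
        have h2 := (Nat.prime_dvd_prime_iff_eq hp ht).1 (hp.dvd_of_dvd_pow hpd)
        omega) a ha
      show z ∈ Subgroup.centralizer {a}
      rw [Subgroup.mem_centralizer_singleton_iff]
      calc z * a = z * (z⁻¹ * a * z) := by rw [h2]
        _ = a * z := by group
    rw [hgen] at h1
    rw [Subgroup.mem_center_iff]
    intro g
    have h2 := h1 (Subgroup.mem_top g)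
    rw [Subgroup.mem_centralizer_singleton_iff] at h2
    exact h2
  -- a minimal normal subgroup of the quotient
  set mk : G →* G ⧸ center G := QuotientGroup.mk' (center G) with hmk
  have hsurj : Function.Surjective mk := QuotientGroup.mk'_surjective _
  have hker : ∀ g, mk g = 1 ↔ g ∈ center G := fun g => QuotientGroup.eq_one_iff g
  have hnt2 : Nontrivial (G ⧸ center G) := by
    by_contra hs
    rw [not_nontrivial_iff_subsingleton] at hs
    apply hcon0
    intro a b
    have h1 : a ∈ center G := (hker a).1 (Subsingleton.elim _ _)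
    exact (Subgroup.mem_center_iff.1 h1 b).symm
  obtain ⟨M, hM, hM0, hMmin⟩ := Cfsg.Agent.H386.Factor.exists_min_normal (G := G ⧸ center G)
  set N : Subgroup G := M.comap mk with hN
  have hNn : N.Normal := hM.comap mk
  have hNM : N.map mk = M := Subgroup.map_comap_eq_self_of_surjective hsurj M
  have hMem : ∀ x, x ∈ N ↔ mk x ∈ M := fun x => Iff.rfl
  -- the centre of `N`
  have hZ : ∀ x ∈ N, (∀ y ∈ N, x * y = y * x) → x ∈ center G := by
    intro x hx hxy
    have hC : (N ⊓ Subgroup.centralizer (N : Set G)).Normal := by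
      have : (Subgroup.centralizer (N : Set G)).Normal := Subgroup.normal_centralizer
      infer_instance
    refine habN _ hC (fun a ha b hb => ?_) ⟨hx, ?_⟩
    · exact (Subgroup.mem_centralizer_iff.1 ha.2 b hb.1).symm
    · show x ∈ Subgroup.centralizer (N : Set G)
      rw [Subgroup.mem_centralizer_iff]
      intro y hy
      exact (hxy y hy).symm
  have hnaN : ∃ x ∈ N, ∃ y ∈ N, x * y ≠ y * x := by
    by_contra hcon
    push Not at hcon
    apply hM0
    rw [eq_bot_iff]
    intro y hy
    obtain ⟨x, rfl⟩ := hsurj y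
    rw [Subgroup.mem_bot, hker]
    exact hZ x hy (fun z hz => hcon x hy z hz)
  by_cases hMab : ∀ x ∈ M, ∀ y ∈ M, Commute x y
  · -- abelian case
    have hcomm : ∀ x ∈ N, ∀ y ∈ N, ⁅x, y⁆ ∈ center G := by
      intro x hx y hy
      rw [← hker, map_commutatorElement, commutatorElement_eq_one_iff_mul_comm]
      exact hMab _ hx _ hy
    -- the order of `M`
    have hcq := card_quot_le ρ hinj N hsc hcomm hZ
    have hcard : Nat.card (N ⧸ (center G).subgroupOf N) = Nat.card M := by
      let φ : N →* M := (mk.comp N.subtype).codRestrict M (fun b => b.2)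
      have hφs : Function.Surjective φ := by
        rintro ⟨a, ha⟩
        obtain ⟨b, rfl⟩ := hsurj a
        exact ⟨⟨b, ha⟩, rfl⟩
      have hφk : φ.ker = (center G).subgroupOf N := by
        ext b
        rw [MonoidHom.mem_ker, Subgroup.mem_subgroupOf, ← hker]
        constructor
        · intro h1; exact congrArg Subtype.val h1
        · intro h1; exact Subtype.ext h1
      rw [← hφk]
      exact Nat.card_congr (QuotientGroup.quotientKerEquivOfSurjective φ hφs).toEquiv
    have h16 : Nat.card M ≤ 16 := by
      rw [← hcard]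
      exact hcq.trans (Nat.mul_le_mul hd hd)
    have hM1 : Nat.card M ≠ 1 := fun h1 => hM0 (Subgroup.card_eq_one.1 h1)
    obtain ⟨p, hp, hpd⟩ := Nat.exists_prime_and_dvd hM1
    have hpf : Fact p.Prime := ⟨hp⟩
    -- exponent `p`
    have hexp : ∀ x ∈ M, x ^ p = 1 := by
      let E : Subgroup (G ⧸ center G) :=
        { carrier := {x | x ∈ M ∧ x ^ p = 1}
          one_mem' := ⟨one_mem _, one_pow _⟩
          mul_mem' := fun {a b} ha hb => ⟨mul_mem ha.1 hb.1, by
            rw [(hMab a ha.1 b hb.1).mul_pow, ha.2, hb.2, one_mul]⟩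
          inv_mem' := fun {a} ha => ⟨inv_mem ha.1, by rw [inv_pow, ha.2, inv_one]⟩ }
      have hE : E.Normal := ⟨fun a ha g => ⟨hM.conj_mem a ha.1 g, by
        rw [conj_pow, ha.2, mul_one, mul_inv_cancel]⟩⟩
      have hE0 : E ≠ ⊥ := by
        obtain ⟨x, hx⟩ := exists_prime_orderOf_dvd_card' p hpd
        intro h0
        have h1 : (x : G ⧸ center G) ∈ E := ⟨x.2, by
          have := pow_orderOf_eq_one x
          rw [hx] at this
          exact congrArg Subtype.val this⟩
        rw [h0, Subgroup.mem_bot] at h1
        have h2 : x = 1 := Subtype.ext h1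
        rw [h2, orderOf_one] at hx
        exact hp.one_lt.ne hx
      rcases hMmin E hE (fun x hx => hx.1) with h | h
      · exact absurd h hE0
      · intro x hx
        rw [← h] at hx
        exact hx.2
    have hMp : IsPGroup p M := fun x => ⟨1, Subtype.ext (by rw [pow_one]; exact hexp x x.2)⟩
    obtain ⟨a, ha⟩ := IsPGroup.iff_card.1 hMp
    -- the rank is at least two
    have ha2 : 2 ≤ a := by
      by_contra hlt
      have ha1 : a = 0 ∨ a = 1 := by omega
      rcases ha1 with rfl | rfl
      · rw [pow_zero] at ha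
        exact hM1 ha
      · rw [pow_one, ← hNM] at ha
        obtain ⟨x, hx, y, hy, hxy⟩ := hnaN
        exact hxy (comm_of_card_prime ha x hx y hy)
    have hp2 : p = 2 := by
      have h1 : p ^ 2 ≤ 16 := by
        calc p ^ 2 ≤ p ^ a := Nat.pow_le_pow_right hp.pos ha2
          _ = Nat.card M := ha.symm
          _ ≤ 16 := h16
      have h4 : p ≤ 4 := by
        by_contra hlt
        have : 5 ^ 2 ≤ p ^ 2 := Nat.pow_le_pow_left (by omega) 2
        omega
      have h2 := hp.two_le
      interval_cases p
      · rfl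
      · exfalso
        apply h3
        refine hpd.trans ((Subgroup.card_subgroup_dvd_card M).trans ?_)
        exact Subgroup.card_quotient_dvd_card _
      · exact absurd hp (by decide)
    subst hp2
    have htwo : ∀ x ∈ N, x * x ∈ center G := by
      intro x hx
      rw [← hker, map_mul, ← pow_two]
      exact hexp _ hx
    obtain ⟨ε, hε⟩ := exists_cl ρ hinj N hsc hcomm htwo hZ hnaN
    -- some generator moves `N / Z`
    have hmove : ∃ z ∈ S, ∃ x ∈ N, z * x * z⁻¹ * x⁻¹ ∉ center G := by
      by_contra hcon
      push Not at hcon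
      -- all of `M` is central in the quotient
      have h1 : ∀ x ∈ M, ∀ g : G ⧸ center G, g * x = x * g := by
        intro x hx
        obtain ⟨x, rfl⟩ := hsurj x
        have h2 : Subgroup.closure S ≤ (Subgroup.centralizer {mk x}).comap mk := by
          rw [Subgroup.closure_le]
          intro z hz
          show mk z ∈ Subgroup.centralizer {mk x}
          rw [Subgroup.mem_centralizer_singleton_iff]
          have h4 := (hker _).2 (hcon z hz x hx)
          rw [map_mul, map_mul, map_mul, map_inv, map_inv] at h4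
          calc mk z * mk x = mk z * mk x * (mk z)⁻¹ * (mk x)⁻¹ * (mk x * mk z) := by group
            _ = mk x * mk z := by rw [h4, one_mul]
        rw [hgen] at h2
        intro g
        obtain ⟨g, rfl⟩ := hsurj g
        have h4 := h2 (Subgroup.mem_top g)
        exact Subgroup.mem_centralizer_singleton_iff.1 h4
      obtain ⟨x, hx, hx1⟩ : ∃ x ∈ M, x ≠ 1 := by
        by_contra hcon2
        push Not at hcon2
        apply hM0
        rw [eq_bot_iff]
        intro x hx
        exact Subgroup.mem_bot.2 (hcon2 x hx)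
      have h2 : (Subgroup.zpowers x).Normal := by
        constructor
        intro y hy g
        obtain ⟨i, rfl⟩ := hy
        refine ⟨i, ?_⟩
        show x ^ i = g * x ^ i * g⁻¹
        rw [h1 _ (zpow_mem hx i) g, mul_inv_cancel_right]
      rcases hMmin _ h2 (by rw [Subgroup.zpowers_le]; exact hx) with h4 | h4
      · rw [Subgroup.zpowers_eq_bot] at h4
        exact hx1 h4
      · have h6 : Nat.card M = 2 := by
          rw [← h4, Nat.card_zpowers]
          exact orderOf_eq_prime (hexp x hx) hx1
        rw [h6] at ha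
        have h7 : 2 ^ 2 ≤ 2 ^ a := Nat.pow_le_pow_right (by norm_num) ha2
        omega
    obtain ⟨z, hzS, hzx⟩ := hmove
    obtain ⟨n, hn⟩ := hSt z hzS
    have ha4 : a ≤ 4 := by
      by_contra hlt
      have : 2 ^ 5 ≤ 2 ^ a := Nat.pow_le_pow_right (by norm_num) (by omega)
      omega
    interval_cases a
    · -- order four
      let σ : MulAut M :=
        { toFun := fun x => ⟨mk z * x * (mk z)⁻¹, hM.conj_mem _ x.2 _⟩
          invFun := fun x => ⟨(mk z)⁻¹ * x * mk z, by
            have := hM.conj_mem _ x.2 (mk z)⁻¹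
            rwa [inv_inv] at this⟩
          left_inv := fun x => Subtype.ext (by
            show (mk z)⁻¹ * (mk z * (x : G ⧸ center G) * (mk z)⁻¹) * mk z = x
            group)
          right_inv := fun x => Subtype.ext (by
            show mk z * ((mk z)⁻¹ * (x : G ⧸ center G) * mk z) * (mk z)⁻¹ = x
            group)
          map_mul' := fun x y => Subtype.ext (by
            show mk z * ((x : G ⧸ center G) * y) * (mk z)⁻¹ =
              mk z * (x : G ⧸ center G) * (mk z)⁻¹ * (mk z * y * (mk z)⁻¹)
            group) }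
      have hσ : ∀ x : M, ((σ x : M) : G ⧸ center G) = mk z * x * (mk z)⁻¹ := fun x => rfl
      have hσpow : ∀ (m : ℕ) (x : M), (((σ ^ m) x : M) : G ⧸ center G) = mk z ^ m * x * (mk z ^ m)⁻¹ := by
        intro m
        induction m with
        | zero => intro x; rw [pow_zero, pow_zero, one_mul, inv_one, mul_one]; rfl
        | succ m ih =>
          intro x
          rw [pow_succ', MulAut.mul_apply, hσ, ih, pow_succ']
          group
      have hσ1 : σ = 1 := aut_four (by rw [ha]; norm_num) ht h5 (n := n) (by
        apply MulEquiv.ext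
        intro x
        apply Subtype.ext
        rw [hσpow, ← map_pow, hn, map_one, one_mul, inv_one, mul_one]
        rfl)
      obtain ⟨x, hx, hxc⟩ := hzx
      apply hxc
      rw [← hker, map_mul, map_mul, map_mul, map_inv, map_inv, ← hσ ⟨mk x, hx⟩, hσ1]
      exact mul_inv_cancel _
    · -- order eight
      exact hε.card_ne_eight (by rw [hcard, ha]; norm_num)
    · -- order sixteen
      have hd4 : finrank k V = 4 := by
        by_contra hne
        have hlt : finrank k V ≤ 3 := by omega
        have := hcq.trans (Nat.mul_le_mul hlt hlt)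
        rw [hcard, ha] at this
        omega
      exact not_sixteen ρ hinj hd4 N hsc hcomm hZ (by rw [hcard, ha]; norm_num) ht h5 hn (hSr z hzS) hzx
  · -- nonabelian case
    obtain ⟨T, hT⟩ := Cfsg.Agent.H386.Factor.exists_factor M hMmin hMab
    have hTs : IsSimpleGroup T := by
      have : Nontrivial T := (Subgroup.nontrivial_iff_ne_bot T).2 hT.ne_bot
      refine ⟨fun K hK => ?_⟩
      have hle : K.map T.subtype ≤ T := Subgroup.map_subtype_le K
      rcases hT.simple (K.map T.subtype) hle (by
        rintro s hs _ ⟨x, hx, rfl⟩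
        exact ⟨_, hK.conj_mem x hx ⟨s, hs⟩, rfl⟩) with h | h
      · left
        exact (Subgroup.map_eq_bot_iff_of_injective K T.subtype_injective).1 h
      · right
        rw [eq_top_iff]
        intro x _
        have h1 : (x : G ⧸ center G) ∈ K.map T.subtype := by rw [h]; exact x.2
        obtain ⟨y, hy, hyx⟩ := h1
        rwa [← Subtype.ext hyx]
    have hTna : ∃ a b : T, a * b ≠ b * a := by
      by_contra hcon
      push Not at hcon
      apply hT.ne_bot
      rw [eq_bot_iff]
      intro x hx
      rw [Subgroup.mem_bot]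
      refine hT.centerless x hx fun y hy => ?_
      exact congrArg Subtype.val (hcon ⟨x, hx⟩ ⟨y, hy⟩)
    have hT3 : ¬ 3 ∣ Nat.card T := fun h =>
      h3 (h.trans ((Subgroup.card_subgroup_dvd_card T).trans (Subgroup.card_quotient_dvd_card _)))
    obtain ⟨A, c, hAc⟩ := exists_frob hTna hT3
    exact no_frob ρ hinj hd hk hsc _ _ (hAc.map T.subtype T.subtype_injective)

end Cfsg.Agent.H574.Deg4
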