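import Mathlib

/-!
# Orbits of an automorphism of prime power order of a group of order sixteen (helper574)

`card_orbits_le` : `σ ≠ 1` an automorphism of the group `Q` of order 16 with `σ ^ t ^ n = 1`, `t ≥ 5` prime, has at most
four orbits.
-/

set_option autoImplicit false

namespace Cfsg.Agent.H574.Deg4

open MulAction

variable {Q : Type*} [Group Q] [Finite Q]

omit [Finite Q] in
theorem fixed_dvd (σ : MulAut Q) : Nat.card (fixedPoints (Subgroup.zpowers σ) Q) ∣ Nat.card Q := by
  let F : Subgroup Q :=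
    { carrier := fixedPoints (Subgroup.zpowers σ) Q
      one_mem' := fun g => map_one (g : MulAut Q)
      mul_mem' := fun {a b} ha hb g => by
        have h1 : (g : MulAut Q) a = a := ha g
        have h2 : (g : MulAut Q) b = b := hb g
        show (g : MulAut Q) (a * b) = a * b
        rw [map_mul, h1, h2]
      inv_mem' := fun {a} ha g => by
        have h1 : (g : MulAut Q) a = a := ha g
        show (g : MulAut Q) a⁻¹ = a⁻¹
        rw [map_inv, h1] }
  exact Subgroup.card_subgroup_dvd_card F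

theorem card_orbits_le {σ : MulAut Q} (hQ : Nat.card Q = 16) {t n : ℕ} (ht : t.Prime) (h5 : 5 ≤ t)
    (hσ : σ ^ t ^ n = 1) (hne : σ ≠ 1) :
    Nat.card (orbitRel.Quotient (Subgroup.zpowers σ) Q) ≤ 4 := by
  classical
  have htf : Fact t.Prime := ⟨ht⟩
  have hP : IsPGroup t (Subgroup.zpowers σ) := by
    rintro ⟨_, i, rfl⟩
    refine ⟨n, Subtype.ext ?_⟩
    show (σ ^ i) ^ t ^ n = 1
    rw [← zpow_natCast, ← zpow_mul, mul_comm, zpow_mul, zpow_natCast, hσ, one_zpow]
  have := Fintype.ofFinite Q
  have hmod := hP.card_modEq_card_fixedPoints Q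
  rw [hQ] at hmod
  obtain ⟨f, hf⟩ : ∃ f, f = Nat.card (fixedPoints (Subgroup.zpowers σ) Q) := ⟨_, rfl⟩
  have hdvd := fixed_dvd σ
  rw [hQ, ← hf] at hdvd
  rw [← hf] at hmod
  have hf16 : f ≠ 16 := by
    intro h16
    apply hne
    have h1 : fixedPoints (Subgroup.zpowers σ) Q = Set.univ := by
      apply Set.eq_of_subset_of_ncard_le (Set.subset_univ _)
      rw [Set.ncard_univ, hQ, ← Nat.card_coe_set_eq, ← hf, h16]
    ext x
    have h2 : x ∈ fixedPoints (Subgroup.zpowers σ) Q := by rw [h1]; trivial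
    exact h2 ⟨σ, Subgroup.mem_zpowers σ⟩
  have hf2 : f ≤ 2 := by
    have h1 : f ∣ 2 ^ 4 := hdvd
    obtain ⟨j, hj, hj'⟩ := (Nat.dvd_prime_pow Nat.prime_two).1 h1
    have hfle : f ≤ 16 := Nat.le_of_dvd (by norm_num) hdvd
    have h2 : t ∣ 16 - f := (Nat.modEq_iff_dvd' hfle).1 hmod.symm
    by_contra hcon
    interval_cases j
    · omega
    · omega
    · rw [hj'] at h2
      norm_num at h2
      have h3 : t ∣ 2 ^ 2 * 3 := by norm_num; exact h2
      rcases ht.dvd_mul.1 h3 with h4 | h4
      · have := Nat.le_of_dvd (by norm_num) (ht.dvd_of_dvd_pow h4); omega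
      · have := Nat.le_of_dvd (by norm_num) h4; omega
    · rw [hj'] at h2
      norm_num at h2
      have h3 : t ∣ 2 ^ 3 := by norm_num; exact h2
      have := Nat.le_of_dvd (by norm_num) (ht.dvd_of_dvd_pow h3); omega
    · omega
  -- counting the points
  set Ω := orbitRel.Quotient (Subgroup.zpowers σ) Q
  have : Fintype Ω := Fintype.ofFinite Ω
  have hsum : ∑ ω : Ω, Nat.card ω.orbit = 16 := by
    rw [← hQ, Nat.card_congr (selfEquivSigmaOrbits' (Subgroup.zpowers σ) Q), Nat.card_sigma]
  have horb : ∀ ω : Ω, Nat.card ω.orbit = 1 ∨ 5 ≤ Nat.card ω.orbit := by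
    intro ω
    induction ω using Quotient.inductionOn' with
    | h a =>
      obtain ⟨j, hj⟩ := hP.card_orbit a
      have h1 : Nat.card (orbitRel.Quotient.orbit (Quotient.mk'' a : Ω)) = t ^ j := by
        rw [orbitRel.Quotient.orbit_mk]
        exact hj
      rw [h1]
      rcases Nat.eq_zero_or_pos j with rfl | hj0
      · left; rfl
      · right
        calc 5 ≤ t := h5
          _ = t ^ 1 := (pow_one t).symm
          _ ≤ t ^ j := Nat.pow_le_pow_right ht.pos hj0
  have hone : (Finset.univ.filter fun ω : Ω => Nat.card ω.orbit = 1).card ≤ f := by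
    rw [hf, ← Fintype.card_coe, ← Nat.card_eq_fintype_card]
    refine Nat.card_le_card_of_injective
      (fun ω : {x // x ∈ Finset.univ.filter fun ω : Ω => Nat.card ω.orbit = 1} =>
        (⟨(ω : Ω).out, ?_⟩ : fixedPoints (Subgroup.zpowers σ) Q)) ?_
    · have h1 := (Finset.mem_filter.1 ω.2).2
      have h2 : (ω : Ω) = Quotient.mk'' (ω : Ω).out := (Quotient.out_eq' _).symm
      rw [h2, orbitRel.Quotient.orbit_mk] at h1
      intro g
      have h3 : g • (ω : Ω).out ∈ orbit (Subgroup.zpowers σ) (ω : Ω).out := ⟨g, rfl⟩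
      have h4 : (ω : Ω).out ∈ orbit (Subgroup.zpowers σ) (ω : Ω).out := mem_orbit_self _
      have h5 := (Nat.card_eq_one_iff_unique.1 h1).1
      have h6 := h5.elim ⟨_, h3⟩ ⟨_, h4⟩
      exact congrArg Subtype.val h6
    · intro a b hab
      have h1 : (a : Ω).out = (b : Ω).out := congrArg Subtype.val hab
      apply Subtype.ext
      rw [← Quotient.out_eq' (a : Ω), ← Quotient.out_eq' (b : Ω), h1]
  have hlow : ∑ ω : Ω, (if Nat.card ω.orbit = 1 then 1 else 5) ≤ ∑ ω : Ω, Nat.card ω.orbit := by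
    apply Finset.sum_le_sum
    intro ω _
    rcases horb ω with h1 | h1
    · rw [if_pos h1, h1]
    · rw [if_neg (by omega)]
      exact h1
  rw [hsum, Finset.sum_ite, Finset.sum_const, Finset.sum_const, smul_eq_mul, smul_eq_mul, mul_one] at hlow
  have htot : (Finset.univ.filter fun ω : Ω => Nat.card ω.orbit = 1).card +
      (Finset.univ.filter fun ω : Ω => ¬ Nat.card ω.orbit = 1).card = Fintype.card Ω := by
    rw [Finset.card_filter_add_card_filter_not, Finset.card_univ]
  rw [Nat.card_eq_fintype_card]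
  omega

end Cfsg.Agent.H574.Deg4
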