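import Cfsg.Agent.H189.FTRep

/-!
# Weights of an abelian group and elements normalising it (helper574)

* `span_wt` : a finite abelian group of order prime to the characteristic has a basis of weight vectors;
* `centralises_of_pow` : `c` normalises `A`, `c ^ j` centralises `A`, no prime `≤ dim V` divides `j`: `c` centralises `A`;
* `order_four` : `x` normalises `A`, `x ^ 4 = 1` and `-1` is not an eigenvalue of `x`: `x ^ 2` centralises `A` and `[a, x]`
  is trivial on the fixed points of `x ^ 2`.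
-/

set_option autoImplicit false

namespace Cfsg.Agent.H574.Deg4

open Module Cfsg.Agent.H189.Wt Cfsg.Agent.H189.FTRep

universe u v w

variable {k : Type u} {V : Type v} {G : Type w} [Field k] [AddCommGroup V] [Module k V] [Group G]

theorem span_wt [IsAlgClosed k] [FiniteDimensional k V] (ρ : G →* End k V) (A : Subgroup G) [Finite A]
    (hA : (Nat.card A : k) ≠ 0) (hab : ∀ a ∈ A, ∀ b ∈ A, a * b = b * a) :
    Submodule.span k {v : V | ∃ χ : A → k, ∀ a : A, ρ a v = χ a • v} = ⊤ := by
  have h1 := Module.End.iSup_iInf_maxGenEigenspace_eq_top_of_iSup_maxGenEigenspace_eq_top_of_commute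
    (fun a : A => ρ (a : G)) (fun a b _ => by
      show ρ (a : G) * ρ (b : G) = ρ (b : G) * ρ (a : G)
      rw [← map_mul, ← map_mul, hab a a.2 b b.2]) (fun a => Module.End.iSup_maxGenEigenspace_eq_top _)
  rw [eq_top_iff, ← h1]
  refine iSup_le fun χ => ?_
  intro v hv
  apply Submodule.subset_span
  refine ⟨χ, fun a => ?_⟩
  have h2 : (ρ (a : G)).IsSemisimple := by
    apply Module.End.isSemisimple_of_squarefree_aeval_eq_zero
      (p := (Polynomial.X ^ (Nat.card A) - 1 : Polynomial k))
    · exact (Polynomial.X_pow_sub_one_separable_iff.2 hA).squarefree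
    · have h3 : (a : G) ^ Nat.card A = 1 := by
        have := pow_card_eq_one' (x := a)
        exact congrArg Subtype.val this
      rw [map_sub, map_pow, Polynomial.aeval_X, map_one, ← map_pow, h3, map_one, sub_self]
  have h3 := h2.isFinitelySemisimple.maxGenEigenspace_eq_eigenspace (χ a)
  have h4 := (Submodule.mem_iInf _).1 hv a
  rw [h3] at h4
  exact Module.End.mem_eigenspace_iff.1 h4

/-- an element of a spanning set of vectors: linear maps agreeing there are equal -/
theorem eq_of_wt [IsAlgClosed k] [FiniteDimensional k V] (ρ : G →* End k V) (A : Subgroup G) [Finite A]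
    (hA : (Nat.card A : k) ≠ 0) (hab : ∀ a ∈ A, ∀ b ∈ A, a * b = b * a) (f g : End k V)
    (h : ∀ (χ : A → k) (v : V), v ≠ 0 → (∀ a : A, ρ a v = χ a • v) → f v = g v) : f = g := by
  apply LinearMap.ext
  intro v
  have hv : v ∈ Submodule.span k {v : V | ∃ χ : A → k, ∀ a : A, ρ a v = χ a • v} := by
    rw [span_wt ρ A hA hab]; trivial
  induction hv using Submodule.span_induction with
  | mem x hx =>
    obtain ⟨χ, hχ⟩ := hx
    by_cases hx0 : x = 0
    · rw [hx0, map_zero, map_zero]
    · exact h χ x hx0 hχ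
  | zero => rw [map_zero, map_zero]
  | add x y _ _ hx hy => rw [map_add, map_add, hx, hy]
  | smul c x _ hx => rw [map_smul, map_smul, hx]

/-- conjugation of a weight -/
def cw {A : Subgroup G} {c : G} (hc : ∀ a ∈ A, c⁻¹ * a * c ∈ A) (χ : A → k) : A → k :=
  fun a => χ ⟨c⁻¹ * a * c, hc a a.2⟩

theorem cw_wt (ρ : G →* End k V) {A : Subgroup G} {c : G} (hc : ∀ a ∈ A, c⁻¹ * a * c ∈ A) {χ : A → k} {v : V}
    (h : ∀ a : A, ρ a v = χ a • v) (a : A) : ρ a (ρ c v) = cw hc χ a • ρ c v := by
  have h1 := h ⟨c⁻¹ * a * c, hc a a.2⟩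
  change ρ (c⁻¹ * a * c) v = cw hc χ a • v at h1
  rw [← map_smul, ← h1, ← mul_apply', ← mul_apply']
  congr 2
  group

theorem cw_iterate_wt (ρ : G →* End k V) {A : Subgroup G} {c : G} (hc : ∀ a ∈ A, c⁻¹ * a * c ∈ A) {χ : A → k}
    {v : V} (h : ∀ a : A, ρ a v = χ a • v) : ∀ (i : ℕ) (a : A), ρ a (ρ (c ^ i) v) = (cw hc)^[i] χ a • ρ (c ^ i) v
  | 0, a => by
    rw [pow_zero, map_one, End.one_apply]
    exact h a
  | i + 1, a => by
    rw [pow_succ', mul_apply', Function.iterate_succ_apply']
    exact cw_wt ρ hc (cw_iterate_wt ρ hc h i) a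

omit [Field k] in
theorem cw_iterate_apply {A : Subgroup G} {c : G} (hc : ∀ a ∈ A, c⁻¹ * a * c ∈ A) :
    ∀ (i : ℕ) (χ : A → k) (a : A), ∃ h : (c ^ i)⁻¹ * a * c ^ i ∈ A, (cw hc)^[i] χ a = χ ⟨(c ^ i)⁻¹ * a * c ^ i, h⟩
  | 0, χ, a => ⟨by rw [pow_zero, inv_one, one_mul, mul_one]; exact a.2, by
      rw [Function.iterate_zero, id]
      congr 1
      apply Subtype.ext
      show (a : G) = (c ^ 0)⁻¹ * a * c ^ 0
      rw [pow_zero, inv_one, one_mul, mul_one]⟩
  | i + 1, χ, a => by
    obtain ⟨h, e⟩ := cw_iterate_apply hc i (cw hc χ) a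
    have h1 := hc _ h
    have h2 : c⁻¹ * ((c ^ i)⁻¹ * a * c ^ i) * c = (c ^ (i + 1))⁻¹ * a * c ^ (i + 1) := by
      rw [pow_succ]
      group
    refine ⟨h2 ▸ h1, ?_⟩
    rw [Function.iterate_succ_apply, e]
    show χ _ = χ _
    congr 1
    exact Subtype.ext h2

/-- the conjugates of a weight are at most `dim V` many -/
theorem minimalPeriod_le [FiniteDimensional k V] (ρ : G →* End k V) {A : Subgroup G} {c : G}
    (hc : ∀ a ∈ A, c⁻¹ * a * c ∈ A) {χ : A → k} {v : V} (hv : v ≠ 0) (h : ∀ a : A, ρ a v = χ a • v) :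
    Function.minimalPeriod (cw hc) χ ≤ finrank k V := by
  have h1 := card_le_of_wt (fun a : A => ρ a) (fun i : Fin (Function.minimalPeriod (cw hc) χ) => ρ (c ^ (i : ℕ)) v)
    (fun i => (cw hc)^[(i : ℕ)] χ) ?_ (fun i => ne_zero ρ _ hv) (fun i a => cw_iterate_wt ρ hc h i a)
  · rwa [Fintype.card_fin] at h1
  · intro i j hij
    apply Fin.ext
    exact Function.iterate_injOn_Iio_minimalPeriod i.2 j.2 hij

/-- **an element normalising an abelian group of small degree centralises it** -/
theorem centralises_of_pow [IsAlgClosed k] [FiniteDimensional k V] (ρ : G →* End k V) (hinj : Function.Injective ρ)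
    (A : Subgroup G) [Finite A] (hA : (Nat.card A : k) ≠ 0) (hab : ∀ a ∈ A, ∀ b ∈ A, a * b = b * a) {c : G}
    (hc : ∀ a ∈ A, c⁻¹ * a * c ∈ A) {j : ℕ} (hj : ∀ a ∈ A, (c ^ j)⁻¹ * a * c ^ j = a)
    (hd : ∀ p : ℕ, p.Prime → p ≤ finrank k V → ¬ p ∣ j) : ∀ a ∈ A, c⁻¹ * a * c = a := by
  intro a ha
  apply hinj
  apply eq_of_wt ρ A hA hab
  intro χ v hv hχ
  have h1 := minimalPeriod_le ρ hc hv hχ
  have h2 : Function.minimalPeriod (cw hc) χ ∣ j := by
    apply Function.IsPeriodicPt.minimalPeriod_dvd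
    funext b
    obtain ⟨hb, e⟩ := cw_iterate_apply hc j χ b
    rw [e]
    congr 1
    exact Subtype.ext (hj b b.2)
  have h3 : Function.minimalPeriod (cw hc) χ = 1 := by
    by_contra hne
    obtain ⟨p, hp, hpd⟩ := Nat.exists_prime_and_dvd hne
    have hj0 : j ≠ 0 := by
      rintro rfl
      have h4 : 1 ≤ finrank k V := by
        have : Nontrivial V := ⟨v, 0, hv⟩
        exact finrank_pos
      by_cases h5 : 2 ≤ finrank k V
      · exact hd 2 Nat.prime_two h5 (dvd_zero 2)
      · -- one-dimensional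
        have h6 : Function.minimalPeriod (cw hc) χ = 0 := by omega
        -- all translates have the same weight
        have h7 : ∀ w : V, ∃ t : k, w = t • v := by
          intro w
          have h8 : finrank k V = 1 := by omega
          obtain ⟨t, ht⟩ := (finrank_eq_one_iff_of_nonzero' v hv).1 h8 w
          exact ⟨t, ht.symm⟩
        have h9 : cw hc χ = χ := by
          funext b
          obtain ⟨t, ht⟩ := h7 (ρ c v)
          have h10 := cw_wt ρ hc hχ b
          have h11 : ρ c v ≠ 0 := ne_zero ρ c hv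
          rw [ht, map_smul, hχ b, smul_comm] at h10
          rw [← ht] at h10
          have h12 : (χ b - cw hc χ b) • ρ c v = 0 := by
            rw [sub_smul, ← h10, ht, smul_comm (χ b) t v, sub_self]
          rcases smul_eq_zero.1 h12 with h13 | h13
          · exact (sub_eq_zero.1 h13).symm
          · exact absurd h13 h11
        have h10 : Function.minimalPeriod (cw hc) χ ≠ 0 := by
          have h11 : Function.IsPeriodicPt (cw hc) 1 χ := h9
          exact (h11.minimalPeriod_pos one_pos).ne'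
        exact h10 h6
    have h4 : Function.minimalPeriod (cw hc) χ ≠ 0 := by
      intro h
      rw [h] at h2
      exact hj0 (Nat.eq_zero_of_zero_dvd h2)
    exact hd p hp ((Nat.le_of_dvd (Nat.pos_of_ne_zero h4) hpd).trans h1) (hpd.trans h2)
  have h4 : cw hc χ = χ := by
    have := Function.iterate_minimalPeriod (f := cw hc) (x := χ)
    rwa [h3] at this
  have h5 : ρ (c⁻¹ * a * c) v = cw hc χ ⟨a, ha⟩ • v := hχ ⟨c⁻¹ * a * c, hc a ha⟩
  rw [h5, h4]
  exact (hχ ⟨a, ha⟩).symm

end Cfsg.Agent.H574.Deg4
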